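import Groth.Agent.FibDim.BaseField
import Mathlib.AlgebraicGeometry.PullbackCarrier

/-!
# Dimensions of inverse images along base changes of constant fibre dimension
-/

set_option autoImplicit false
set_option linter.style.haveILetI false

open AlgebraicGeometry CategoryTheory Limits Topology

namespace Groth.Agent.WellIsect

universe u

theorem add_natCast_le_iff {a b : WithBot ℕ∞} (n : ℕ) :
    a + (n : WithBot ℕ∞) ≤ b + (n : WithBot ℕ∞) ↔ a ≤ b := by
  induction a with
  | bot => simp
  | coe a =>
  induction b with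
  | bot => simp [WithBot.add_eq_bot]
  | coe b =>
  change ((a : WithBot ℕ∞) + ((n : ℕ∞) : WithBot ℕ∞) ≤ (b : WithBot ℕ∞) + ((n : ℕ∞) : WithBot ℕ∞)) ↔
    (a : WithBot ℕ∞) ≤ (b : WithBot ℕ∞)
  rw [← WithBot.coe_add, ← WithBot.coe_add, WithBot.coe_le_coe, WithBot.coe_le_coe]
  exact (ENat.addLECancellable_of_ne_top (ENat.natCast_ne_top n)).add_le_add_iff_right

variable {K : Type u} [Field K]

/-- Inverse images of locally closed sets along a base change of a morphism whose fibres have
dimension `d` gain `d` in dimension. -/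
theorem dim_preimage {P P' S S' : Scheme.{u}} {π : P' ⟶ P} {ρ : P' ⟶ S'} {φ : P ⟶ S} {g : S' ⟶ S}
    (h : IsPullback π ρ φ g) (q : S ⟶ Spec (CommRingCat.of K)) [LocallyOfFiniteType q]
    [LocallyOfFiniteType φ] [LocallyOfFiniteType g] (d : ℕ)
    (hd : ∀ s : S, topologicalKrullDim (g.fiber s) = d)
    {U Z : Set P} (hU : IsOpen U) (hZ : IsClosed Z) :
    topologicalKrullDim ↥(π ⁻¹' (U ∩ Z)) = topologicalKrullDim ↥(U ∩ Z) + (d : WithBot ℕ∞) := by
  haveI := FibDim.subsingleton_spec_field K
  haveI : LocallyOfFiniteType π := MorphismProperty.of_isPullback h.flip inferInstance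
  have hfib : ∀ s : S, (d : WithBot ℕ∞) = ⨆ z : ↥(g ⁻¹' {s}), ((FibDim.rd g z.1 : ℕ∞) : WithBot ℕ∞) := by
    intro s
    rw [← hd s]
    have h1 := FibDim.dim_closed_inter_eq_iSup g s (Z := Set.univ) isClosed_univ
    rw [Set.univ_inter] at h1
    rw [← h1]
    exact (g.fiberHomeo s).isHomeomorph.topologicalKrullDim_eq
  have hle : ∀ z : S', FibDim.rd g z ≤ d := fun z => by
    have h1 : ((FibDim.rd g z : ℕ∞) : WithBot ℕ∞) ≤ (d : WithBot ℕ∞) := by
      rw [hfib (g z)]
      exact le_iSup_of_le (⟨z, rfl⟩ : ↥(g ⁻¹' {g z})) le_rfl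
    exact_mod_cast h1
  have hex : ∀ s : S, ∃ z, g z = s ∧ FibDim.rd g z = d := fun s => by
    have h1 := hfib s
    by_contra hc
    push_neg at hc
    rcases d with _ | d
    · rcases isEmpty_or_nonempty ↥(g ⁻¹' {s}) with he | ⟨⟨z⟩⟩
      · rw [ciSup_of_empty] at h1
        exact WithBot.coe_ne_bot h1
      · exact hc z.1 z.2 (Nat.le_zero.1 (hle z.1))
    · have h2 : (⨆ z : ↥(g ⁻¹' {s}), ((FibDim.rd g z.1 : ℕ∞) : WithBot ℕ∞)) ≤ (d : WithBot ℕ∞) :=
        iSup_le fun z => by
          have := hle z.1
          have := hc z.1 z.2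
          exact_mod_cast (show FibDim.rd g z.1 ≤ d by omega)
      rw [← h1] at h2
      have : d + 1 ≤ d := by exact_mod_cast h2
      omega
  have key : ∀ {T : Scheme.{u}} (p : T ⟶ Spec (CommRingCat.of K)) [LocallyOfFiniteType p]
      {V C : Set T}, IsOpen V → IsClosed C →
      topologicalKrullDim ↥(V ∩ C) = ⨆ x : ↥(V ∩ C), ((FibDim.rd p x.1 : ℕ∞) : WithBot ℕ∞) := by
    intro T p _ V C hV hC
    rcases Set.eq_empty_or_nonempty (V ∩ C) with he | ⟨t, ht⟩
    · haveI : IsEmpty ↥(V ∩ C) := Set.isEmpty_coe_sort.2 he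
      haveI : IsEmpty (TopologicalSpace.IrreducibleCloseds ↥(V ∩ C)) :=
        ⟨fun Z => isEmptyElim Z.isIrreducible.nonempty.some⟩
      rw [topologicalKrullDim, Order.krullDim_eq_bot, ciSup_of_empty]
    · have he : V ∩ C ∩ p ⁻¹' {p t} = V ∩ C :=
        Set.inter_eq_left.2 fun x _ => Subsingleton.elim (p x) (p t)
      have := FibDim.dim_inter_eq_iSup p (p t) hV hC
      rw [(Homeomorph.setCongr he).isHomeomorph.topologicalKrullDim_eq] at this
      rw [this]
      exact (Homeomorph.setCongr he).toEquiv.iSup_congr fun _ => rfl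
  rw [Set.preimage_inter, key (π ≫ φ ≫ q) (hU.preimage π.continuous) (hZ.preimage π.continuous),
    key (φ ≫ q) hU hZ]
  refine le_antisymm (iSup_le fun x => ?_) ?_
  · rw [FibDim.rd_comp]
    push_cast
    exact add_le_add (le_iSup_of_le (⟨π x.1, x.2⟩ : ↥(U ∩ Z)) le_rfl)
      (by exact_mod_cast (FibDim.rd_baseChange_le h.flip x.1).trans (hle _))
  · rcases isEmpty_or_nonempty ↥(U ∩ Z) with he | hne
    · simp
    rw [← WithBot.coe_iSup (OrderTop.bddAbove _),
      show ((d : WithBot ℕ∞)) = ((d : ℕ∞) : WithBot ℕ∞) from rfl, ← WithBot.coe_add, ENat.iSup_add,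
      WithBot.coe_iSup (OrderTop.bddAbove _)]
    refine iSup_le fun x => ?_
    obtain ⟨z, hz, hzd⟩ := hex (φ x.1)
    obtain ⟨x', -, hx', hrd⟩ := FibDim.exists_rd_baseChange_eq h.flip z x.1 hz
    refine le_iSup_of_le (⟨x', by
      show π x' ∈ U ∧ π x' ∈ Z
      rw [hx']; exact x.2⟩ : ↥(π ⁻¹' U ∩ π ⁻¹' Z)) (le_of_eq ?_)
    dsimp only
    rw [FibDim.rd_comp π, hrd, hzd, hx', FibDim.rd_comp φ]
    push_cast
    rfl

variable {X S S' : Scheme.{u}} (f : X ⟶ S) (g : S' ⟶ S)

noncomputable def sqMap :
    pullback (pullback.snd f g) (pullback.snd f g) ⟶ pullback f f :=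
  pullback.map _ _ f f (pullback.fst f g) (pullback.fst f g) g (pullback.condition).symm
    (pullback.condition).symm

theorem isPullback_sqMap :
    IsPullback (sqMap f g) (pullback.fst _ _ ≫ pullback.snd f g) (pullback.fst f f ≫ f) g := by
  have h1 : IsPullback (pullback.fst f g) (pullback.snd f g) f g := IsPullback.of_hasPullback f g
  have h2 : IsPullback (pullback.snd (pullback.snd f g) (pullback.snd f g))
      (pullback.fst (pullback.snd f g) (pullback.snd f g)) (pullback.snd f g) (pullback.snd f g) :=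
    (IsPullback.of_hasPullback _ _).flip
  have h3 := h2.paste_horiz h1
  rw [show pullback.snd f g ≫ g = pullback.fst f g ≫ f from pullback.condition.symm] at h3
  have h4 : IsPullback (sqMap f g) (pullback.fst (pullback.snd f g) (pullback.snd f g))
      (pullback.fst f f) (pullback.fst f g) :=
    IsPullback.of_right (h₁₂ := pullback.snd f f) (h₂₂ := f)
      (by simpa only [sqMap, pullback.map, pullback.lift_snd] using h3)
      (pullback.lift_fst _ _ _)
      (IsPullback.of_hasPullback f f).flip
  exact h4.paste_vert h1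

theorem preimage_range_diagonal :
    sqMap f g ⁻¹' Set.range (pullback.diagonal f) =
      Set.range (pullback.diagonal (pullback.snd f g)) := by
  apply subset_antisymm
  · rw [← Scheme.Pullback.range_fst]
    rintro _ ⟨t, rfl⟩
    have hc := pullback.condition (f := sqMap f g) (g := pullback.diagonal f)
    have ha : pullback.fst (sqMap f g) (pullback.diagonal f) ≫ pullback.fst _ _ =
        pullback.fst (sqMap f g) (pullback.diagonal f) ≫ pullback.snd _ _ := by
      apply pullback.hom_ext
      · have h1 := congrArg (fun m => m ≫ pullback.fst f f) hc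
        have h2 := congrArg (fun m => m ≫ pullback.snd f f) hc
        simp only [sqMap, Category.assoc, pullback.lift_fst, pullback.lift_snd,
          pullback.diagonal_fst, pullback.diagonal_snd] at h1 h2
        rw [Category.assoc, Category.assoc]
        exact h1.trans h2.symm
      · rw [Category.assoc, Category.assoc, pullback.condition]
    have he : pullback.fst (sqMap f g) (pullback.diagonal f) =
        (pullback.fst (sqMap f g) (pullback.diagonal f) ≫ pullback.fst _ _) ≫
          pullback.diagonal (pullback.snd f g) := by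
      apply pullback.hom_ext
      · rw [Category.assoc, pullback.diagonal_fst, Category.comp_id]
      · rw [Category.assoc, pullback.diagonal_snd, Category.comp_id, ha]
    rw [he, Scheme.Hom.comp_apply]
    exact ⟨_, rfl⟩
  · rintro _ ⟨t, rfl⟩
    refine ⟨pullback.fst f g t, ?_⟩
    rw [← Scheme.Hom.comp_apply, ← Scheme.Hom.comp_apply]
    refine congrFun (congrArg (fun m => (m : _ ⟶ pullback f f).base.hom.1) ?_) t
    apply pullback.hom_ext <;>
      simp [sqMap, pullback.map, pullback.lift_fst, pullback.lift_snd, pullback.diagonal_fst_assoc,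
        pullback.diagonal_snd_assoc]

end Groth.Agent.WellIsect
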